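import Mathlib.Algebra.Module.FinitePresentation
import Mathlib.RingTheory.Spectrum.Prime.FreeLocus

/-!
# Dividing a boundary by an ideal near a point where the cokernel is free
-/

set_option autoImplicit false
set_option linter.style.haveILetI false

universe u

namespace Groth.L11.RigidH1

/-- Where the cokernel is free a boundary divisible by an ideal is, up to a scalar invertible there,
the boundary of a divisible element. -/
theorem exists_smul_boundary {A : Type u} [CommRing A] {L₀ L₁ : Type u} [AddCommGroup L₀]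
    [Module A L₀] [AddCommGroup L₁] [Module A L₁] (d : L₀ →ₗ[A] L₁)
    [Module.FinitePresentation A (L₁ ⧸ LinearMap.range d)] (x : PrimeSpectrum A)
    (hx : x ∈ Module.freeLocus A (L₁ ⧸ LinearMap.range d))
    (I : Ideal A) (l : L₀) (h : d l ∈ I • (⊤ : Submodule A L₁)) :
    ∃ s, s ∉ x.asIdeal ∧ ∃ e ∈ I • (⊤ : Submodule A L₀), d e = s • d l := by
  let S := x.asIdeal.primeCompl
  let π := (LinearMap.range d).mkQ
  let f₁ := LocalizedModule.mkLinearMap S L₁
  let f₂ := LocalizedModule.mkLinearMap S (L₁ ⧸ LinearMap.range d)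
  let πS := LocalizedModule.map S π
  haveI : Module.Free (Localization S) (LocalizedModule S (L₁ ⧸ LinearMap.range d)) := hx
  obtain ⟨g₀, hg₀⟩ := Module.projective_lifting_property πS LinearMap.id
    (LocalizedModule.map_surjective S π (Submodule.mkQ_surjective _))
  obtain ⟨σ, s, hs⟩ := Module.FinitePresentation.exists_lift_of_isLocalizedModule S f₁
    ((g₀.restrictScalars A) ∘ₗ f₂)
  have H : f₂ ∘ₗ (π ∘ₗ σ) = f₂ ∘ₗ ((s : A) • LinearMap.id) := by
    refine LinearMap.ext fun m => ?_
    have h1 : f₁ (σ m) = (s : A) • g₀ (f₂ m) := LinearMap.congr_fun hs m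
    have h2 : πS (g₀ (f₂ m)) = f₂ m := LinearMap.congr_fun hg₀ _
    calc f₂ (π (σ m)) = πS (f₁ (σ m)) := (LocalizedModule.map_mk S π (σ m) 1).symm
      _ = (s : A) • f₂ m := by
        rw [h1, LinearMap.map_smul_of_tower, h2]
      _ = f₂ ((s : A) • m) := (map_smul f₂ _ _).symm
  obtain ⟨s₁, hs₁⟩ := Module.Finite.exists_smul_of_comp_eq_of_isLocalizedModule S f₂ _ _ H
  have key : ∀ m, (s₁ : A) • π (σ m) = ((s₁ : A) * s) • m := fun m => by
    have := LinearMap.congr_fun hs₁ m
    simpa [mul_smul, Submonoid.smul_def] using this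
  refine ⟨(s₁ : A) * s, fun hm => (s₁ * s).2 hm, ?_⟩
  let p : L₁ →ₗ[A] L₁ := ((s₁ : A) * s) • LinearMap.id - (s₁ : A) • (σ ∘ₗ π)
  have hp : ∀ m, p m ∈ LinearMap.range d := fun m => by
    refine (Submodule.Quotient.mk_eq_zero _).1 ?_
    show π (p m) = 0
    simp [p, key]
  have h3 : p (d l) ∈ I • LinearMap.range d := by
    have h4 : p (d l) ∈ (I • (⊤ : Submodule A L₁)).map p := ⟨_, h, rfl⟩
    rw [Submodule.map_smul''] at h4
    exact Submodule.smul_mono (le_refl I) (Submodule.map_le_iff_le_comap.2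
      (fun m _ => hp m : (⊤ : Submodule A L₁) ≤ (LinearMap.range d).comap p)) h4
  rw [← Submodule.map_top d, ← Submodule.map_smul''] at h3
  obtain ⟨e, he, hde⟩ := h3
  refine ⟨e, he, hde.trans ?_⟩
  have : π (d l) = 0 := (Submodule.Quotient.mk_eq_zero _).2 ⟨l, rfl⟩
  simp [p, this]

end Groth.L11.RigidH1
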