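import Groth.Agent.L11.RigidH1.Local
import Groth.Agent.L11.NumOrth.PicFam
import Groth.Agent.L08.Cube.Inverse
import Groth.Agent.L11.Magnet.Factor

/-!
# Algebraic equivalence is trivial when `H¹` of the structure sheaf vanishes
-/

set_option autoImplicit false
set_option linter.style.haveILetI false
set_option linter.unusedSectionVars false
set_option backward.isDefEq.respectTransparency false
set_option backward.isDefEq.respectTransparency.types false

universe u

open CategoryTheory CategoryTheory.Limits AlgebraicGeometry TopologicalSpace Opposite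

noncomputable section

namespace Groth.L11.RigidH1

open Groth.L11.PicFam (res res_fst res_snd isPullback_res fibre_res isPullback_slice exists_of_snd)
open Groth.L18.Frame (rs IsFrame pull)

variable (k : Type u) [Field k] {X : Scheme.{u}} [X.Over (Spec (CommRingCat.of k))]
  [IsProper (X ↘ Spec (CommRingCat.of k))]

theorem flat_overField : Flat (X ↘ Spec (CommRingCat.of k)) := by
  haveI := Groth.L11.Magnet.flat_of_field (Over.mk (X ↘ Spec (CommRingCat.of k)))
  assumption

variable {k}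
variable (h1 : Subsingleton (Coh.HH X (Coh.structureModule X) 1))

include h1 in
theorem rankH1_of_subsingleton : Groth.L02.Canon.RankH1 (X ↘ Spec (CommRingCat.of k)) := by
  haveI := h1
  unfold Groth.L02.Canon.RankH1
  exact Module.finrank_zero_of_subsingleton

variable {T : Scheme.{u}} (q : T ⟶ Spec (CommRingCat.of k))

include h1 in
/-- On an affine base the locus of trivial fibres is open at points. -/
theorem exists_open_affine [IsAffine T] [LocallyOfFiniteType q] (F : (Pic13.prodK k X q).Modules)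
    (hF : PicF.IsInvertible F) (t₀ : Spec (CommRingCat.of k) ⟶ T) (ht₀ : t₀ ≫ q = 𝟙 _)
    (θ : Pic13.fibreMod k X q t₀ ht₀ F ≅ Coh.structureModule X) :
    ∃ U : T.Opens, t₀ (IsLocalRing.closedPoint k) ∈ U ∧
      ∀ (t : Spec (CommRingCat.of k) ⟶ T) (ht : t ≫ q = 𝟙 _), t (IsLocalRing.closedPoint k) ∈ U →
        Nonempty (Pic13.fibreMod k X q t ht F ≅ Coh.structureModule X) := by
  let A : Type u := Γ(T, ⊤)
  haveI : IsLocallyNoetherian T := LocallyOfFiniteType.isLocallyNoetherian q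
  haveI : IsNoetherianRing A := IsLocallyNoetherian.component_noetherian ⟨⊤, isAffineOpen_top T⟩
  haveI := flat_overField k (X := X)
  let fP : Pic13.prodK k X q ⟶ Spec (CommRingCat.of A) := pullback.snd _ _ ≫ T.isoSpec.hom
  haveI : Flat (pullback.snd (X ↘ Spec (CommRingCat.of k)) q) := MorphismProperty.pullback_snd _ _ inferInstance
  haveI : Flat fP := inferInstanceAs (Flat (pullback.snd _ _ ≫ T.isoSpec.hom))
  haveI : IsProper fP := inferInstanceAs (IsProper (pullback.snd _ _ ≫ T.isoSpec.hom))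
  let φ : CommRingCat.of A ⟶ CommRingCat.of k := Spec.preimage (t₀ ≫ T.isoSpec.hom)
  letI : Algebra A k := φ.hom.toAlgebra
  have hφ : Spec.map (CommRingCat.ofHom (algebraMap A k)) = t₀ ≫ T.isoSpec.hom := Spec.map_preimage _
  have hk : Function.Surjective (algebraMap A k) := by
    let ψ : CommRingCat.of k ⟶ CommRingCat.of A := Spec.preimage (T.isoSpec.inv ≫ q)
    have hid : ψ ≫ φ = 𝟙 _ := Spec.map_injective (by
      rw [Spec.map_comp, Spec.map_preimage, Spec.map_preimage, Spec.map_id]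
      simpa using ht₀)
    exact fun c => ⟨ψ c, congr($(hid) c)⟩
  have sq₀ : IsPullback (Pic13.sliceAt k X q t₀ ht₀) (X ↘ Spec (CommRingCat.of k)) fP
      (Spec.map (CommRingCat.ofHom (algebraMap A k))) := by
    rw [hφ]
    exact (isPullback_slice q t₀ ht₀).of_iso (Iso.refl _) (Iso.refl _) (Iso.refl _) T.isoSpec
      (by simp) (by simp) (by simp [fP]) (by simp)
  obtain ⟨σ, O, hO, hσ⟩ := exists_frame_near_fibre fP hk sq₀ F hF θ (rankH1_of_subsingleton h1)
  let f := pullback.snd (X ↘ Spec (CommRingCat.of k)) q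
  let U : T.Opens := ⟨(f '' (O : Set _)ᶜ)ᶜ, (f.isClosedMap _ O.2.isClosed_compl).isOpen_compl⟩
  refine ⟨U, ?_, fun t ht htU => ?_⟩
  · rintro ⟨y, hy, hyt⟩
    obtain ⟨x, rfl⟩ := exists_of_snd q t₀ ht₀ y ⟨_, hyt.symm⟩
    exact hy (hO x)
  let s := Pic13.sliceAt k X q t ht
  have hsO : s ⁻¹ᵁ O = ⊤ := by
    refine top_le_iff.1 fun x _ => ?_
    by_contra hx
    refine htU ⟨s x, hx, ?_⟩
    rw [← Scheme.Hom.comp_apply, show s ≫ f = (X ↘ Spec (CommRingCat.of k)) ≫ t from pullback.lift_snd _ _ _,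
      Scheme.Hom.comp_apply]
    congr 1
    exact @Subsingleton.elim (PrimeSpectrum k) _ _ _
  have hfr := (IsFrame.pullback s F hσ).mono (le_of_eq hsO.symm)
  exact Groth.L08.Cube.nonempty_iso_of_frame_top hfr

include h1 in
/-- The locus of trivial fibres is open at points. -/
theorem exists_open [LocallyOfFiniteType q] (F : (Pic13.prodK k X q).Modules)
    (hF : PicF.IsInvertible F) (t₀ : Spec (CommRingCat.of k) ⟶ T) (ht₀ : t₀ ≫ q = 𝟙 _)
    (θ : Pic13.fibreMod k X q t₀ ht₀ F ≅ Coh.structureModule X) :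
    ∃ U : T.Opens, t₀ (IsLocalRing.closedPoint k) ∈ U ∧
      ∀ (t : Spec (CommRingCat.of k) ⟶ T) (ht : t ≫ q = 𝟙 _), t (IsLocalRing.closedPoint k) ∈ U →
        Nonempty (Pic13.fibreMod k X q t ht F ≅ Coh.structureModule X) := by
  obtain ⟨_, ⟨(V : T.Opens), hV, rfl⟩, hxV, -⟩ :=
    T.isBasis_affineOpens.exists_subset_of_mem_open (Set.mem_univ (t₀ (IsLocalRing.closedPoint k))) isOpen_univ
  haveI : IsAffine V := hV
  have hr : ∀ {t : Spec (CommRingCat.of k) ⟶ T}, t (IsLocalRing.closedPoint k) ∈ V →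
      Set.range t ⊆ Set.range V.ι := by
    rintro t htV _ ⟨p, rfl⟩
    rw [Scheme.Opens.range_ι, show p = IsLocalRing.closedPoint k from @Subsingleton.elim (PrimeSpectrum k) _ _ _]
    exact htV
  let lift : ∀ (t : Spec (CommRingCat.of k) ⟶ T), t (IsLocalRing.closedPoint k) ∈ V →
      (Spec (CommRingCat.of k) ⟶ (V : Scheme.{u})) := fun t htV => IsOpenImmersion.lift V.ι t (hr htV)
  have hfac : ∀ t htV, lift t htV ≫ V.ι = t := fun t htV => IsOpenImmersion.lift_fac _ _ _
  let F' := (Scheme.Modules.pullback (res q V.ι)).obj F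
  have hlift : ∀ {t : Spec (CommRingCat.of k) ⟶ T} (ht : t ≫ q = 𝟙 _) (htV : t (IsLocalRing.closedPoint k) ∈ V),
      ∃ h : lift t htV ≫ V.ι ≫ q = 𝟙 _,
        Nonempty (Pic13.fibreMod k X (V.ι ≫ q) (lift t htV) h F' ≅ Pic13.fibreMod k X q t ht F) := by
    intro t ht htV
    refine ⟨by rw [← Category.assoc, hfac t htV, ht], ?_⟩
    have he := hfac t htV
    exact fibre_res q V.ι F (t := lift t htV) (by rw [← Category.assoc, he, ht]) ht he
  obtain ⟨h₀, ⟨e₀⟩⟩ := hlift ht₀ hxV
  obtain ⟨U, hU₀, hU⟩ := exists_open_affine h1 (V.ι ≫ q) F' (Groth.L18.Ample.isInvertible_pullback _ hF)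
    (lift t₀ hxV) h₀ (e₀ ≪≫ θ)
  refine ⟨V.ι ''ᵁ U, ⟨_, hU₀, congr($(hfac t₀ hxV) (IsLocalRing.closedPoint k))⟩, fun t ht htU => ?_⟩
  obtain ⟨y, hy, hyt⟩ := htU
  have htV : t (IsLocalRing.closedPoint k) ∈ V := hyt ▸ y.2
  obtain ⟨h, ⟨e⟩⟩ := hlift ht htV
  obtain ⟨e'⟩ := hU _ h (by
    have : V.ι (lift t htV (IsLocalRing.closedPoint k)) = V.ι y := by
      rw [← Scheme.Hom.comp_apply, hfac t htV]
      exact hyt.symm
    rw [V.ι.isOpenEmbedding.injective this]
    exact hy)
  exact ⟨e.symm ≪≫ e'⟩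

end Groth.L11.RigidH1
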