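import Groth.Agent.L02.Canon.SeesawH1
import Groth.Agent.L11.RigidH1.Algebra

/-!
# A family trivial on a closed fibre without `H¹` is trivial nearby
-/

set_option autoImplicit false
set_option linter.style.haveILetI false
set_option linter.unusedSectionVars false
set_option backward.isDefEq.respectTransparency false

universe u

open CategoryTheory CategoryTheory.Limits AlgebraicGeometry TopologicalSpace Opposite

noncomputable section

namespace Groth.L11.RigidH1

open Groth.L02.Canon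

open Groth.L08.Cube
open Groth.L17.BC (C K dL Idx Ub Sec compat_of_isPullback)
open Groth.L18.Frame (rs ro rs_rs rs_self rs_smul ro_ro ro_self ro_mul IsFrame pull)

section Closed

variable {A k : Type u} [CommRing A] [IsNoetherianRing A] [Field k] [Algebra A k]
  {P P₀ : Scheme.{u}}

/-- A module trivial on a closed fibre with vanishing `H¹` is trivial near it. -/
theorem exists_frame_near_fibre (fP : P ⟶ Spec (CommRingCat.of A)) [IsProper fP] [Flat fP]
    (hk : Function.Surjective (algebraMap A k)) {g₀ : P₀ ⟶ P} {f₀ : P₀ ⟶ Spec (CommRingCat.of k)}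
    (sq₀ : IsPullback g₀ f₀ fP (Spec.map (CommRingCat.ofHom (algebraMap A k))))
    (L : P.Modules) (hL : PicF.IsInvertible L)
    (θ : (Scheme.Modules.pullback g₀).obj L ≅ Coh.structureModule P₀)
    (hr : RankH1 f₀) :
    ∃ (σ : Γ(L, ⊤)) (O : P.Opens), (∀ y : P₀, g₀ y ∈ O) ∧ IsFrame L O (rs L le_top σ) := by
  haveI := Groth.L21.Extend.isQCoh_of_isInvertible hL
  obtain ⟨m⟩ := Groth.L17.BC.nonempty_model fP L (Groth.L18.Ample.isCoh_of_isInvertible hL) (flat_sections fP hL)
  haveI := m.finite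
  haveI := fun i => (m.finiteFree i).1
  have hLf : ∀ i, Module.Finite A (m.L.X i) ∧ Module.Flat A (m.L.X i) := fun i => ⟨inferInstance, m.flat_X i⟩
  let x₀ : PrimeSpectrum A := PrimeSpectrum.comap (algebraMap A k) ⊥
  have hfree : Groth.L17.BC.Crit.FreeC m.L 0 x₀ := by
    have h1 := m.finrank_eq_dRank f₀ g₀ sq₀ 1
    rw [finrank_HH_of_iso f₀ θ 1, hr] at h1
    refine (Groth.L17.BC.Crit.freeC_of_dRank_eq_zero m.L hLf x₀ (j := 0) ?_).1
    exact_mod_cast h1.symm
  haveI : Module.FinitePresentation A ((m.L.X (0 + 1) : Type u) ⧸ LinearMap.range (m.L.d 0 (0 + 1)).hom) :=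
    Module.finitePresentation_of_finite A _
  let I := RingHom.ker (algebraMap A k)
  let t₀ := Triv.ofIso g₀ L θ
  have hcm := compat_of_isPullback fP f₀ g₀ sq₀
  obtain ⟨c₁, hc₁⟩ := EC_surjective m.U sq₀ hk m.affine θ 0 (oneC (Coh.toGlobal f₀) (Ub g₀ m.U))
  have hdc₁ : dL (Coh.toGlobal fP) L m.U 0 c₁ ∈ I • (⊤ : Submodule A (C (Coh.toGlobal fP) L m.U (0 + 1))) := by
    refine mem_smul_of_EC_eq_zero m.U sq₀ hk m.affine hL θ t₀ (0 + 1) _ ?_
    rw [EC_d, hc₁, dL_oneC]
  obtain ⟨l, hl, hlc⟩ := exists_preimage_mod m.φ m.quasiIso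
    (Groth.L17.BC.subsingleton_C (Coh.toGlobal fP) L m.U (by norm_num)) I c₁
    (by rw [Groth.L17.BC.K_d]; exact hdc₁)
  obtain ⟨s, hs, e, he, hde⟩ := exists_smul_boundary (m.L.d 0 (0 + 1)).hom x₀ hfree I l hl
  have hs0 : algebraMap A k s ≠ 0 := fun h0 => hs (by
    show algebraMap A k s ∈ (⊥ : PrimeSpectrum k).asIdeal
    rw [h0]
    exact zero_mem _)
  obtain ⟨a, ha⟩ := hk (algebraMap A k s)⁻¹
  have has : a * s - 1 ∈ I := by
    show algebraMap A k (a * s - 1) = 0
    rw [map_sub, map_mul, ha, inv_mul_cancel₀ hs0, map_one, sub_self]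
  let e' := a • e - (a * s - 1) • l
  have he' : e' ∈ I • (⊤ : Submodule A (m.L.X 0 : Type u)) :=
    Submodule.sub_mem _ (Submodule.smul_mem _ a he) (Submodule.smul_mem_smul has trivial)
  have hde' : (m.L.d 0 (0 + 1)).hom e' = (m.L.d 0 (0 + 1)).hom l := by
    simp only [e', map_sub, map_smul, hde]
    module
  clear hde he
  have hx := d_map_eq_zero m.φ (l := l - e') (by rw [map_sub, hde', sub_self])
  rw [Groth.L17.BC.K_d] at hx
  refine exists_frame_of_unit_cycle m.U hL t₀ (Coh.toGlobal fP) (Coh.toGlobal f₀) m.cover _ hx ?_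
  rw [← hc₁, ← sub_eq_zero, ← map_sub]
  refine EC_eq_zero_of_mem _ hcm m.U _ _ ?_
  have h2 := Submodule.sub_mem _ hlc (map_mem I (m.φ.f 0).hom he')
  rwa [map_sub, sub_right_comm]

end Closed

end Groth.L11.RigidH1
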