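import Groth.Agent.L11.RigidH1.Fam
import Groth.Agent.L11.Bdd.Tau
import Groth.Agent.L21.RR.PicFieldExt

/-!
# Numerically trivial modules are torsion when `H¹` of the structure sheaf vanishes
-/

set_option autoImplicit false
set_option linter.style.haveILetI false
set_option linter.unusedSectionVars false
set_option backward.isDefEq.respectTransparency false
set_option backward.isDefEq.respectTransparency.types false

universe u

open CategoryTheory CategoryTheory.Limits AlgebraicGeometry TopologicalSpace Opposite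

noncomputable section

namespace Groth.L11.RigidH1

open Groth.L11.NumOrth (NT)

section Closed

variable (k : Type u) [Field k] [IsAlgClosed k] {X : Scheme.{u}} [X.Over (Spec (CommRingCat.of k))]
  [IsProper (X ↘ Spec (CommRingCat.of k))]

/-- All fibres of a connected family agree when `H¹` of the structure sheaf vanishes. -/
theorem nonempty_fibre_iso (h1 : Subsingleton (Coh.HH X (Coh.structureModule X) 1)) {T : Scheme.{u}}
    [ConnectedSpace T] (q : T ⟶ Spec (CommRingCat.of k)) [LocallyOfFiniteType q]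
    (M : (Pic13.prodK k X q).Modules) (hM : PicF.IsInvertible M) (t t₀ : Spec (CommRingCat.of k) ⟶ T)
    (ht : t ≫ q = 𝟙 _) (ht₀ : t₀ ≫ q = 𝟙 _) :
    Nonempty (Pic13.fibreMod k X q t ht M ≅ Pic13.fibreMod k X q t₀ ht₀ M) := by
  haveI : JacobsonSpace T := LocallyOfFiniteType.jacobsonSpace q
  let c := IsLocalRing.closedPoint k
  -- near every point the fibres agree with the one at it
  have loc : ∀ (s : Spec (CommRingCat.of k) ⟶ T) (hs : s ≫ q = 𝟙 _), ∃ U : T.Opens, s c ∈ U ∧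
      ∀ (s' : Spec (CommRingCat.of k) ⟶ T) (hs' : s' ≫ q = 𝟙 _), s' c ∈ U →
        Nonempty (Pic13.fibreMod k X q s' hs' M ≅ Pic13.fibreMod k X q s hs M) := by
    intro s hs
    have hinv : ∀ (s' : Spec (CommRingCat.of k) ⟶ T) (hs' : s' ≫ q = 𝟙 _),
        PicF.IsInvertible (Pic13.fibreMod k X q s' hs' M) := fun s' hs' =>
      Groth.L18.Ample.isInvertible_pullback _ hM
    obtain ⟨N, hN, ⟨eN⟩⟩ := Groth.L08.Cube.exists_inverse (hinv s hs)
    let p := pullback.fst (X ↘ Spec (CommRingCat.of k)) q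
    let M' := CohB1.tensorMod M ((Scheme.Modules.pullback p).obj N)
    have fib : ∀ (s' : Spec (CommRingCat.of k) ⟶ T) (hs' : s' ≫ q = 𝟙 _),
        Nonempty (Pic13.fibreMod k X q s' hs' M' ≅ CohB1.tensorMod (Pic13.fibreMod k X q s' hs' M) N) :=
      fun s' hs' => ⟨(Groth.L29.DC.PullTensor.pullTensor _ M _).symm ≪≫ Groth.L00.Tensor.tensorIso (Iso.refl _)
        ((Scheme.Modules.pullbackComp _ p).app N ≪≫
          (Scheme.Modules.pullbackCongr (show Pic13.sliceAt k X q s' hs' ≫ p = 𝟙 X from pullback.lift_fst _ _ _)).app N ≪≫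
          (Scheme.Modules.pullbackId X).app N)⟩
    obtain ⟨e₀⟩ := fib s hs
    obtain ⟨U, hU₀, hU⟩ := exists_open h1 q M'
      (Groth.L18.GenLoc.isInvertible_tensor hM (Groth.L18.Ample.isInvertible_pullback p hN)) s hs (e₀ ≪≫ eN)
    refine ⟨U, hU₀, fun s' hs' h' => ?_⟩
    obtain ⟨a⟩ := hU s' hs' h'
    obtain ⟨b⟩ := fib s' hs'
    exact ⟨(Groth.L00.Tensor.tensorUnitRight _).symm ≪≫
      Groth.L00.Tensor.tensorIso (Iso.refl _) (eN.symm ≪≫ Groth.L00.Tensor.tensorComm _ _) ≪≫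
      (Groth.L00.Tensor.tensorAssoc _ _ _).symm ≪≫
      Groth.L00.Tensor.tensorIso (b.symm ≪≫ a) (Iso.refl _) ≪≫ Groth.L00.Tensor.tensorUnitLeft _⟩
  choose U hU₀ hU using loc
  let W : T.Opens := ⨆ (s) (hs) (_ : Nonempty (Pic13.fibreMod k X q s hs M ≅ Pic13.fibreMod k X q t₀ ht₀ M)), U s hs
  let W' : T.Opens := ⨆ (s) (hs) (_ : ¬ Nonempty (Pic13.fibreMod k X q s hs M ≅ Pic13.fibreMod k X q t₀ ht₀ M)), U s hs
  have memW : ∀ {x : T}, x ∈ W → ∃ s hs, Nonempty (Pic13.fibreMod k X q s hs M ≅ Pic13.fibreMod k X q t₀ ht₀ M) ∧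
      x ∈ U s hs := fun {x} hx => by
    simpa [W] using hx
  have memW' : ∀ {x : T}, x ∈ W' → ∃ s hs, ¬ Nonempty (Pic13.fibreMod k X q s hs M ≅ Pic13.fibreMod k X q t₀ ht₀ M) ∧
      x ∈ U s hs := fun {x} hx => by
    simpa [W'] using hx
  have hcl : ∀ x : T, x ∈ closedPoints T → x ∈ W ∨ x ∈ W' := by
    intro x hx
    let s := pointOfClosedPoint q x hx
    have hs : s ≫ q = 𝟙 _ := pointOfClosedPoint_comp q x hx
    have hxs : x ∈ U s hs := by
      have := hU₀ s hs
      rwa [show s c = x from pointOfClosedPoint_apply q x hx c] at this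
    by_cases h : Nonempty (Pic13.fibreMod k X q s hs M ≅ Pic13.fibreMod k X q t₀ ht₀ M)
    · exact Or.inl (by simp only [W, Opens.mem_iSup]; exact ⟨s, hs, h, hxs⟩)
    · exact Or.inr (by simp only [W', Opens.mem_iSup]; exact ⟨s, hs, h, hxs⟩)
  have hcov : (W : Set T) ∪ W' = Set.univ := by
    by_contra hne
    obtain ⟨x, hx, hxc⟩ := nonempty_inter_closedPoints (Z := ((W : Set T) ∪ W')ᶜ)
      (Set.nonempty_compl.2 hne) (W.2.union W'.2).isClosed_compl.isLocallyClosed
    exact hx (hcl x hxc)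
  have hdis : Disjoint (W : Set T) W' := by
    rw [Set.disjoint_iff_inter_eq_empty, ← Set.not_nonempty_iff_eq_empty]
    intro hne
    obtain ⟨x, ⟨hxW, hxW'⟩, hxc⟩ := nonempty_inter_closedPoints hne (W.2.inter W'.2).isLocallyClosed
    obtain ⟨a, ha, ⟨ea⟩, hxa⟩ := memW hxW
    obtain ⟨b, hb, hnb, hxb⟩ := memW' hxW'
    let s := pointOfClosedPoint q x hxc
    have hs : s ≫ q = 𝟙 _ := pointOfClosedPoint_comp q x hxc
    have hsx : s c = x := pointOfClosedPoint_apply q x hxc c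
    obtain ⟨e1⟩ := hU a ha s hs (hsx ▸ hxa)
    obtain ⟨e2⟩ := hU b hb s hs (hsx ▸ hxb)
    exact hnb ⟨e2.symm ≪≫ e1 ≪≫ ea⟩
  have hW : (W : Set T) = Set.univ := by
    refine (isClopen_iff.1 ⟨?_, W.2⟩).resolve_left (Set.Nonempty.ne_empty ⟨t₀ c, ?_⟩)
    · have : (W : Set T) = (W' : Set T)ᶜ := (isCompl_iff.2 ⟨hdis, codisjoint_iff.2 hcov⟩).eq_compl
      show IsClosed (W : Set T)
      rw [this]
      exact W'.2.isClosed_compl
    · show t₀ c ∈ W
      simp only [W, Opens.mem_iSup]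
      exact ⟨t₀, ht₀, ⟨Iso.refl _⟩, hU₀ t₀ ht₀⟩
  obtain ⟨s, hs, ⟨e⟩, hts⟩ := memW (show t c ∈ W from hW.ge (Set.mem_univ _))
  obtain ⟨e'⟩ := hU s hs t ht hts
  exact ⟨e' ≪≫ e⟩

/-- An algebraically trivial module is trivial when `H¹` of the structure sheaf vanishes. -/
theorem trivial_of_algEquivZero (h1 : Subsingleton (Coh.HH X (Coh.structureModule X) 1)) {L : X.Modules}
    (h : Pic13.IsAlgEquivZero k X L) : Nonempty (L ≅ Coh.structureModule X) := by
  obtain ⟨T, q, hc, hlft, -, M, hM, t, t₀, ht, ht₀, ⟨e⟩, ⟨e₀⟩⟩ := h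
  obtain ⟨a⟩ := nonempty_fibre_iso k h1 q M hM t t₀ ht ht₀
  exact ⟨e.symm ≪≫ a ≪≫ e₀⟩

theorem torsion_of_NT (h1 : Subsingleton (Coh.HH X (Coh.structureModule X) 1)) {L : X.Modules} (h : NT k L) :
    ∃ d : ℕ, 0 < d ∧ Nonempty (CohB1.tensorPow L d ≅ Coh.structureModule X) := by
  obtain ⟨d, hd, ha⟩ := Groth.L11.Bdd.isTauEquivZero_of_NT k h
  exact ⟨d, hd, trivial_of_algEquivZero k h1 ha⟩

end Closed

section AnyField

open Groth.L11.NumOrth Groth.L22.Nef Groth.L22.Inter

variable (k : Type u) [Field k] {X : Scheme.{u}} [X.Over (Spec (CommRingCat.of k))]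
  [IsProper (X ↘ Spec (CommRingCat.of k))]

/-- Numerically trivial modules are torsion when `H¹` of the structure sheaf vanishes. -/
theorem torsion_of_numZero (h1 : Subsingleton (Coh.HH X (Coh.structureModule X) 1)) {L : X.Modules}
    (hL : PicF.IsInvertible L) (h0 : Pic13.IsNumEquivZero k X L) :
    ∃ d : ℕ, 0 < d ∧ Nonempty (CohB1.tensorPow L d ≅ Coh.structureModule X) := by
  haveI := Groth.L21.RR.isNoetherian_of_proper (X := X) k
  let E := AlgebraicClosure k
  let g := projE k E X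
  have sq : IsPullback g (XE k E X ↘ Spec (CommRingCat.of E)) (X ↘ Spec (CommRingCat.of k))
      (Spec.map (CommRingCat.ofHom (algebraMap k E))) := IsPullback.of_hasPullback _ _
  haveI := Groth.L21.RR.isNoetherian_of_proper (X := XE k E X) E
  obtain ⟨Q, hQ, ⟨e⟩⟩ := Groth.L08.Cube.exists_inverse hL
  have hNT : NT E ((Scheme.Modules.pullback g).obj L) := by
    refine ⟨Groth.L18.Ample.isInvertible_pullback g hL, ?_⟩
    rw [numZero_iff_isNef E (Groth.L18.Ample.isInvertible_pullback g hL) (Groth.L18.Ample.isInvertible_pullback g hQ)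
      (Groth.L29.DC.PullTensor.pullTensor g L Q ≪≫ (Scheme.Modules.pullback g).mapIso e ≪≫
        Groth.L29.LocFree.pullbackUnitIso g), ← isNef_XE_iff k E hL, ← isNef_XE_iff k E hQ]
    exact (numZero_iff_isNef k hL hQ e).1 h0
  haveI := flat_overField k (X := X)
  have hr := Groth.L02.Canon.rankH1_baseChange (k := k) (X ↘ Spec (CommRingCat.of k)) h1 g
    (XE k E X ↘ Spec (CommRingCat.of E)) sq
  have hcE : Coh.IsCoh (Coh.structureModule (XE k E X)) := Groth.L16.CohClosedPush.isCoh_structure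
  haveI := Groth.L16.ProperFinite.finite_HH E hcE 1
  have h1E : Subsingleton (Coh.HH (XE k E X) (Coh.structureModule (XE k E X)) 1) :=
    Module.finrank_zero_iff.1 hr
  obtain ⟨d, hd, ⟨t⟩⟩ := torsion_of_NT E h1E hNT
  obtain ⟨r⟩ := Groth.L21.PicExt.nonempty_iso_of_pullback g sq
    (Groth.L16.ProperFinite.finite_HH k Groth.L16.CohClosedPush.isCoh_structure 0)
    (Groth.L18.Ample.isInvertible_tensorPow hL d) (t.symm ≪≫ (Groth.L18.Ample.pullPow g L d).symm)
  exact ⟨d, hd, ⟨r.symm⟩⟩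

end AnyField

end Groth.L11.RigidH1
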